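import Cfsg.Agent.H413.L16.Nel_m3
import Cfsg.Agent.H5.L34.Lang_m3
import Cfsg.Agent.H597.E8Form
import Cfsg.Agent.ChevFast.E8
import Cfsg.Agent.ChevFast.Lin
import Cfsg.Agent.H942.DF.Frob
import Cfsg.Agent.Prune
set_option linter.all false

section
prune_inst 0x7f00000000000000000000000000000000000000000000000000000000000000000000000000000000000000000000000000000000000000000000000000000000000000000000000000000000000000003fffffffffffffffffffffffffffbeffbdffffffff

-- part: H201/L34/Form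
section
set_option linter.all false
open scoped Cfsg.Agent.FastGrp

-- part: H201/L34/SimTab
section
/-!
# S5917: parity tables of the root system `E₈` (helper201)
-/

set_option autoImplicit false
set_option maxRecDepth 100000

namespace Cfsg.Agent.H201.L34

open Cfsg Cfsg.Lie
open Cfsg.Agent.ChevalleyStructure.Columns (car cor)
open Cfsg.Agent.H413.L16 (six)

/-- the table : every root has an odd product with a simple root, on both sides -/
theorem par_tab : ((List.range 240).all fun s => (List.range 8).any fun i =>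
    decide (car chevE8 i s % 2 ≠ 0) && decide ((∑ k : Fin 8, cor chevE8 s k * car chevE8 k (six (Fin.ofNat 8 i))) % 2 ≠ 0)) =
      true := by
  (delta Cfsg.Agent.ChevalleyStructure.Columns.car Cfsg.Agent.ChevalleyStructure.Columns.cor; rewrite [Cfsg.Agent.ChevFast.E8.coroot]; (try set_option simprocs false in simp -zeta only [Cfsg.Agent.ChevFast.E8.cartanR]); decide +kernel)

/-- the parity code of a root -/
def pcode (s : ℕ) : ℕ := ((List.range 8).map fun i => (car chevE8 i s % 2).toNat * 2 ^ i).sum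

/-- the positive roots have different parity codes -/
theorem pcode_nodup : ((List.range 120).map pcode).Nodup := by (delta Cfsg.Agent.ChevalleyStructure.Columns.car Cfsg.Agent.H201.L34.pcode; (try set_option simprocs false in simp -zeta only [Cfsg.Agent.ChevFast.E8.cartanR]); decide +kernel)

/-- the Dynkin diagram is connected -/
theorem conn_tab : ∀ S : Finset (Fin 8), S.Nonempty → (∀ i ∈ S, ∀ j : Fin 8,
    ((i : ℕ), (j : ℕ)) ∈ [(0, 2), (2, 0), (2, 3), (3, 2), (1, 3), (3, 1), (3, 4), (4, 3), (4, 5), (5, 4), (5, 6), (6, 5), (6, 7),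
      (7, 6)] → j ∈ S) → S = Finset.univ := by (open scoped Cfsg.Agent.ChevFast.Lin in decide +kernel)

theorem adj_tab : ∀ i j : Fin 8, ((i : ℕ), (j : ℕ)) ∈ [(0, 2), (2, 0), (2, 3), (3, 2), (1, 3), (3, 1), (3, 4), (4, 3), (4, 5),
    (5, 4), (5, 6), (6, 5), (6, 7), (7, 6)] → car chevE8 i (six j) % 2 ≠ 0 := by (delta Cfsg.Agent.ChevalleyStructure.Columns.car; (try set_option simprocs false in simp -zeta only [Cfsg.Agent.ChevFast.E8.cartanR]); decide +kernel)

end Cfsg.Agent.H201.L34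
end

-- part: H201/L34/Simple
section
/-!
# S5917: the Lie algebra of `E₈` in characteristic two is simple (helper201)

* `ideal_top` : an ideal `≠ 0` of `LK` is everything.
-/

set_option autoImplicit false
set_option linter.unusedSectionVars false
set_option maxRecDepth 100000

namespace Cfsg.Agent.H201.L34

open Cfsg Cfsg.Lie Cfsg.Lie.ChevalleyDatum
open Cfsg.Agent.ChevalleyStructure.Columns (car cor)
open Cfsg.Agent.H939.L64
open Cfsg.Agent.H413.L64
open Cfsg.Agent.H413.L16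
open Cfsg.Agent.H876.L64

theorem hv_single_br (i : Fin chevE8.rank) (w : LK) : brK (hv (Pi.single i 1)) w =
    Sum.elim (fun _ => (0 : KK)) (fun s : Fin chevE8.nroots => ((car chevE8 i s : ℤ) : KK) * w (Sum.inr s)) := by
  unfold hv
  rw [h_br]
  congr 1
  funext s
  congr 1
  rw [Finset.sum_eq_single i]
  · rw [Pi.single_eq_same, one_mul]
  · intro j _ hj
    rw [Pi.single_eq_of_ne hj, zero_mul]
  · intro h; exact absurd (Finset.mem_univ _) h

theorem hr_odd {r : ℕ} (hr' : r < 240) : ∃ i : Fin 8, brK (er (six i)) (hr r) = er (six i) := by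
  obtain ⟨i, hi, h2⟩ := List.any_eq_true.1 (List.all_eq_true.1 par_tab r (List.mem_range.2 hr'))
  rw [Bool.and_eq_true, decide_eq_true_eq, decide_eq_true_eq] at h2
  refine ⟨Fin.ofNat 8 i, ?_⟩
  unfold hr
  rw [br_er_hv _ (six_lt _)]
  have h3 : ∑ k : Fin chevE8.rank, ((cor chevE8 r k : ℤ) : KK) * ((car chevE8 k (six (Fin.ofNat 8 i)) : ℤ) : KK) = 1 := by
    have h7 := cast_odd (a := ∑ k : Fin chevE8.rank, cor chevE8 r k * car chevE8 k (six (Fin.ofNat 8 i))) h2.2
    rw [Int.cast_sum] at h7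
    rw [← h7]
    exact Finset.sum_congr rfl fun k _ => (Int.cast_mul _ _).symm
  rw [h3, one_smul]

theorem er_ne_zero {s : ℕ} (hs : s < 240) : er s ≠ 0 := by
  intro h
  have h1 := congrFun h (Sum.inr ⟨s, by rw [nr]; exact hs⟩)
  rw [er_inr, if_pos rfl] at h1
  exact one_ne_zero h1

theorem hr_ne_zero {r : ℕ} (hr' : r < 240) : hr r ≠ 0 := by
  intro h
  obtain ⟨i, hi⟩ := hr_odd hr'
  rw [h, br_zero_r] at hi
  exact er_ne_zero (six_lt i) hi.symm

theorem br_hsingle (i : Fin chevE8.rank) {s : ℕ} (hs : s < 240) :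
    brK (hv (Pi.single i 1)) (er s) = ((car chevE8 i s : ℤ) : KK) • er s := by
  rw [br_hv _ hs]
  congr 1
  rw [Finset.sum_eq_single i]
  · rw [Pi.single_eq_same, one_mul]
  · intro j _ hj
    rw [Pi.single_eq_of_ne hj, zero_mul]
  · intro h; exact absurd (Finset.mem_univ _) h

theorem car_neg {i s : ℕ} (hi : i < 8) (hs : s < 240) : car chevE8 i (239 - s) % 2 = car chevE8 i s % 2 := by
  have hi' : i < chevE8.rank := by rw [rk8]; exact hi
  have h1 := jac (hv (Pi.single ⟨i, hi'⟩ 1)) (er s) (er (239 - s))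
  rw [br_neg hs, br_hsingle _ hs, br_hsingle _ (by omega), br_smul_l, br_smul_r, br_neg hs, ← add_smul] at h1
  have h2 : brK (hv (Pi.single ⟨i, hi'⟩ 1)) (hr s) = 0 := br_hh _ _
  rw [h2] at h1
  have h3 := (smul_eq_zero.1 h1.symm).resolve_right (hr_ne_zero hs)
  have h3' : ((car chevE8 i s : ℤ) : KK) + ((car chevE8 i (239 - s) : ℤ) : KK) = 0 := h3
  rcases Int.emod_two_eq_zero_or_one (car chevE8 i s) with ha | ha <;>
    rcases Int.emod_two_eq_zero_or_one (car chevE8 i (239 - s)) with hb | hb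
  · rw [ha, hb]
  · rw [cast_even ha, cast_odd (by omega : car chevE8 i (239 - s) % 2 ≠ 0), zero_add] at h3'
    exact absurd h3' one_ne_zero
  · rw [cast_even hb, cast_odd (by omega : car chevE8 i s % 2 ≠ 0), add_zero] at h3'
    exact absurd h3' one_ne_zero
  · rw [ha, hb]

theorem eq_or_neg_of_par {r s : ℕ} (hr : r < 240) (hs : s < 240)
    (h : ∀ i < 8, car chevE8 i s % 2 = car chevE8 i r % 2) : s = r ∨ s = 239 - r := by
  have h1 : pcode s = pcode r := by
    unfold pcode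
    congr 1
    refine List.map_congr_left fun i hi => ?_
    rw [h i (List.mem_range.1 hi)]
  have h2 : ∀ t < 240, ∃ u < 120, pcode u = pcode t ∧ (t = u ∨ t = 239 - u) := by
    intro t ht
    by_cases h3 : t < 120
    · exact ⟨t, h3, rfl, Or.inl rfl⟩
    · refine ⟨239 - t, by omega, ?_, Or.inr (by omega)⟩
      unfold pcode
      congr 1
      refine List.map_congr_left fun i hi => ?_
      rw [car_neg (List.mem_range.1 hi) ht]
  obtain ⟨u, hu, e1, e2⟩ := h2 s hs
  obtain ⟨v, hv, e3, e4⟩ := h2 r hr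
  have h5 : u = v := by
    have h6 := List.inj_on_of_nodup_map pcode_nodup (List.mem_range.2 hu) (List.mem_range.2 hv)
    exact h6 (by rw [e1, e3, h1])
  omega

open Classical in
/-- the truncation to the roots with the parities of `r` -/
noncomputable def trc (r : ℕ) (l : List (Fin chevE8.rank)) (w : LK) : LK :=
  Sum.elim (fun k => if ∀ i ∈ l, car chevE8 i r % 2 = 0 then w (Sum.inl k) else 0)
    (fun s : Fin chevE8.nroots => if ∀ i ∈ l, car chevE8 i s % 2 = car chevE8 i r % 2 then w (Sum.inr s) else 0)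

theorem car_cast {a b : ℤ} : ((a : KK) + ((b : KK) + 1)) = if a % 2 = b % 2 then 1 else 0 := by
  have h2 : (1 : KK) + 1 = 0 := by rw [one_add_one_eq_two]; exact two_zero
  rcases Int.emod_two_eq_zero_or_one a with ha | ha <;> rcases Int.emod_two_eq_zero_or_one b with hb | hb
  · rw [cast_even ha, cast_even hb, ha, hb, if_pos rfl, zero_add, zero_add]
  · rw [cast_even ha, cast_odd (by omega : b % 2 ≠ 0), ha, hb, if_neg (by norm_num), zero_add, h2]
  · rw [cast_odd (by omega : a % 2 ≠ 0), cast_even hb, ha, hb, if_neg (by norm_num), zero_add, h2]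
  · rw [cast_odd (by omega : a % 2 ≠ 0), cast_odd (by omega : b % 2 ≠ 0), ha, hb, if_pos rfl, h2, add_zero]

theorem trc_cons (r : ℕ) (i : Fin chevE8.rank) (l : List (Fin chevE8.rank)) (w : LK) : trc r (i :: l) w =
    brK (hv (Pi.single i 1)) (trc r l w) + (((car chevE8 i r : ℤ) : KK) + 1) • trc r l w := by
  classical
  rw [hv_single_br]
  funext a
  rw [Pi.add_apply, Pi.smul_apply, smul_eq_mul]
  rcases a with a | a
  · rw [Sum.elim_inl, zero_add]
    show (if ∀ j ∈ i :: l, car chevE8 j r % 2 = 0 then w (Sum.inl a) else 0) =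
      _ * (if ∀ j ∈ l, car chevE8 j r % 2 = 0 then w (Sum.inl a) else 0)
    have h := car_cast (a := 0) (b := car chevE8 i r)
    rw [Int.cast_zero, zero_add] at h
    rw [h]
    by_cases h1 : car chevE8 i r % 2 = 0
    · rw [if_pos (show (0 : ℤ) % 2 = car chevE8 i r % 2 by omega), one_mul]
      refine if_congr ?_ rfl rfl
      rw [List.forall_mem_cons]
      exact and_iff_right h1
    · rw [if_neg (show ¬ (0 : ℤ) % 2 = car chevE8 i r % 2 by omega), zero_mul, if_neg]
      intro h2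
      exact h1 (h2 i List.mem_cons_self)
  · rw [Sum.elim_inr, ← add_mul, car_cast]
    show (if ∀ j ∈ i :: l, car chevE8 j a % 2 = car chevE8 j r % 2 then w (Sum.inr a) else 0) =
      _ * (if ∀ j ∈ l, car chevE8 j a % 2 = car chevE8 j r % 2 then w (Sum.inr a) else 0)
    by_cases h1 : car chevE8 i a % 2 = car chevE8 i r % 2
    · rw [if_pos h1, one_mul]
      refine if_congr ?_ rfl rfl
      rw [List.forall_mem_cons]
      exact and_iff_right h1
    · rw [if_neg h1, zero_mul, if_neg]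
      intro h2
      exact h1 (h2 i List.mem_cons_self)

theorem trc_mem {I : Submodule KK LK} (hI : ∀ x, ∀ w ∈ I, brK x w ∈ I) (r : ℕ) (l : List (Fin chevE8.rank)) {w : LK}
    (hw : w ∈ I) : trc r l w ∈ I := by
  classical
  induction l with
  | nil =>
    have : trc r [] w = w := by
      funext a
      rcases a with a | a
      · show (if ∀ i ∈ ([] : List (Fin chevE8.rank)), car chevE8 i r % 2 = 0 then w (Sum.inl a) else 0) = w (Sum.inl a)
        exact if_pos fun i hi => absurd hi List.not_mem_nil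
      · show (if ∀ i ∈ ([] : List (Fin chevE8.rank)), car chevE8 i a % 2 = car chevE8 i r % 2 then w (Sum.inr a) else 0) =
          w (Sum.inr a)
        exact if_pos fun i hi => absurd hi List.not_mem_nil
    rw [this]
    exact hw
  | cons i l ih =>
    rw [trc_cons]
    exact I.add_mem (hI _ _ ih) (I.smul_mem _ ih)

theorem exists_odd {r : ℕ} (hr : r < 240) : ∃ i : Fin chevE8.rank, car chevE8 i r % 2 ≠ 0 := by
  obtain ⟨i, hi, h2⟩ := List.any_eq_true.1 (List.all_eq_true.1 odd_all r (List.mem_range.2 hr))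
  exact ⟨⟨i, by rw [rk8]; exact List.mem_range.1 hi⟩, of_decide_eq_true h2⟩

/-- the projection to `⟨e_r, e_{-r}⟩` -/
theorem trc_all {r : ℕ} (hr : r < 240) (w : LK) : trc r (List.finRange chevE8.rank) w =
    w (Sum.inr ⟨r, by rw [nr]; exact hr⟩) • er r + w (Sum.inr ⟨239 - r, by rw [nr]; omega⟩) • er (239 - r) := by
  classical
  funext a
  rw [Pi.add_apply, Pi.smul_apply, Pi.smul_apply, smul_eq_mul, smul_eq_mul]
  rcases a with a | a
  · show (if ∀ i ∈ List.finRange chevE8.rank, car chevE8 i r % 2 = 0 then w (Sum.inl a) else 0) = _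
    rw [if_neg]
    · have h1 : er r (Sum.inl a) = 0 := by
        rw [er_of (by rw [nr]; exact hr)]
        exact Pi.single_eq_of_ne (by simp) _
      have h2 : er (239 - r) (Sum.inl a) = 0 := by
        rw [er_of (by rw [nr]; omega)]
        exact Pi.single_eq_of_ne (by simp) _
      rw [h1, h2, mul_zero, mul_zero, add_zero]
    · intro h
      obtain ⟨i, hi⟩ := exists_odd hr
      exact hi (h i (List.mem_finRange i))
  · show (if ∀ i ∈ List.finRange chevE8.rank, car chevE8 i a % 2 = car chevE8 i r % 2 then w (Sum.inr a) else 0) = _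
    rw [er_inr, er_inr]
    have ha : (a : ℕ) < 240 := lt_of_lt_of_eq a.2 nr
    by_cases h1 : (a : ℕ) = r
    · have h5 : ¬ (239 - r = (a : ℕ)) := by omega
      rw [if_pos h1.symm, if_neg h5, mul_one, mul_zero, add_zero, if_pos (fun i _ => by rw [h1])]
      congr 2
      exact Fin.ext h1
    · by_cases h2 : (a : ℕ) = 239 - r
      · rw [if_neg (Ne.symm h1), if_pos h2.symm, mul_zero, mul_one, zero_add, if_pos]
        · congr 2
          exact Fin.ext h2
        · intro i _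
          rw [h2, car_neg (lt_of_lt_of_eq i.2 rk8) hr]
      · rw [if_neg (Ne.symm h1), if_neg (Ne.symm h2), mul_zero, mul_zero, add_zero, if_neg]
        intro h3
        rcases eq_or_neg_of_par hr ha (fun i hi => h3 ⟨i, by rw [rk8]; exact hi⟩ (List.mem_finRange _)) with h4 | h4
        · exact h1 h4
        · exact h2 h4

theorem er_mem_hr {I : Submodule KK LK} (hI : ∀ x, ∀ w ∈ I, brK x w ∈ I) {r : ℕ} (hr' : r < 240) (h : er r ∈ I) :
    hr r ∈ I := by
  rw [← hr_neg hr', ← br_neg (show 239 - r < 240 by omega), show 239 - (239 - r) = r by omega]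
  exact hI _ _ h

/-- the simple root vectors -/
theorem hr_mem_six {I : Submodule KK LK} (hI : ∀ x, ∀ w ∈ I, brK x w ∈ I) {r : ℕ} (hr' : r < 240) (h : hr r ∈ I) :
    ∃ i : Fin 8, er (six i) ∈ I := by
  obtain ⟨i, hi⟩ := hr_odd hr'
  refine ⟨i, ?_⟩
  rw [← hi]
  exact hI _ _ h

theorem hv_single_er (i : Fin 8) {s : ℕ} (hs : s < 240) :
    brK (er s) (hr (six i)) = ((car chevE8 i s : ℤ) : KK) • er s := by
  have h := hr_six (i.cast rk8.symm)
  have e : (i.cast rk8.symm).cast rk8 = i := rfl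
  rw [e] at h
  rw [h, br_er_hv _ hs]
  congr 1
  rw [Finset.sum_eq_single (i.cast rk8.symm)]
  · rw [Pi.single_eq_same, one_mul]
    rfl
  · intro j _ hj
    rw [Pi.single_eq_of_ne hj, zero_mul]
  · intro h; exact absurd (Finset.mem_univ _) h

/-- one simple root vector generates everything -/
theorem six_top {I : Submodule KK LK} (hI : ∀ x, ∀ w ∈ I, brK x w ∈ I) {i : Fin 8} (h : er (six i) ∈ I) : I = ⊤ := by
  classical
  have h1 : (Finset.univ.filter fun j : Fin 8 => er (six j) ∈ I) = Finset.univ := by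
    apply conn_tab
    · exact ⟨i, Finset.mem_filter.2 ⟨Finset.mem_univ _, h⟩⟩
    · intro a ha b hab
      refine Finset.mem_filter.2 ⟨Finset.mem_univ _, ?_⟩
      have h2 := hI (er (six b)) _ (er_mem_hr hI (six_lt a) (Finset.mem_filter.1 ha).2)
      rwa [hv_single_er a (six_lt b), cast_odd (adj_tab a b hab), one_smul] at h2
  have h2 : ∀ j : Fin 8, er (six j) ∈ I := by
    intro j
    have h := Finset.mem_univ j
    rw [← h1] at h
    exact (Finset.mem_filter.1 h).2
  have h3 : ∀ s < 240, er s ∈ I := by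
    intro s hs
    obtain ⟨j, hj⟩ := exists_odd hs
    have h4 := hI (er s) _ (er_mem_hr hI (six_lt (j.cast rk8)) (h2 (j.cast rk8)))
    rw [hv_single_er _ hs] at h4
    have h5 : ((car chevE8 ((j.cast rk8 : Fin 8) : ℕ) s : ℤ) : KK) = 1 := cast_odd hj
    rwa [h5, one_smul] at h4
  rw [eq_top_iff]
  intro w _
  have h4 : w = ∑ k, w k • (Pi.single k 1 : LK) := by
    funext a
    rw [Finset.sum_apply, Finset.sum_eq_single a]
    · rw [Pi.smul_apply, Pi.single_eq_same, smul_eq_mul, mul_one]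
    · intro b _ hb
      rw [Pi.smul_apply, Pi.single_eq_of_ne hb.symm, smul_zero]
    · intro h; exact absurd (Finset.mem_univ _) h
  rw [h4]
  refine Submodule.sum_mem _ fun k _ => I.smul_mem _ ?_
  rw [single_eq]
  rcases k with k | s
  · show hv (Pi.single k 1) ∈ I
    rw [← hr_six]
    exact er_mem_hr hI (six_lt _) (h2 _)
  · exact h3 _ (lt_of_lt_of_eq s.2 nr)

/-- **the Lie algebra of `E₈` is simple** -/
theorem ideal_top {I : Submodule KK LK} (hI : ∀ x, ∀ w ∈ I, brK x w ∈ I) (h0 : I ≠ ⊥) : I = ⊤ := by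
  obtain ⟨w, hw, hw0⟩ := Submodule.exists_mem_ne_zero_of_ne_bot h0
  suffices h : ∃ r < 240, hr r ∈ I by
    obtain ⟨r, hr', h⟩ := h
    obtain ⟨i, hi⟩ := hr_mem_six hI hr' h
    exact six_top hI hi
  by_cases h1 : ∃ s : Fin chevE8.nroots, w (Sum.inr s) ≠ 0
  · obtain ⟨s, hs⟩ := h1
    have hs' : (s : ℕ) < 240 := lt_of_lt_of_eq s.2 nr
    have h2 := trc_mem hI s (List.finRange chevE8.rank) hw
    rw [trc_all hs'] at h2
    have h3 := hI (er (239 - s)) _ h2
    rw [br_add_r, br_smul_r, br_smul_r, br_self', smul_zero, add_zero] at h3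
    have h4 := br_neg (show 239 - (s : ℕ) < 240 by omega)
    rw [show 239 - (239 - (s : ℕ)) = s by omega] at h4
    rw [h4] at h3
    refine ⟨239 - s, by omega, ?_⟩
    have h5 := I.smul_mem (w (Sum.inr s))⁻¹ h3
    rw [smul_smul] at h5
    rwa [show (⟨(s : ℕ), _⟩ : Fin chevE8.nroots) = s from rfl, inv_mul_cancel₀ hs, one_smul] at h5
  · push Not at h1
    have h2 : w = hv fun i => w (Sum.inl i) := by
      funext a
      rcases a with a | a
      · rfl
      · exact h1 a
    by_contra h3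
    apply hw0
    apply ad_inj
    intro z
    have h4 : ∀ k : chevE8.Idx, brK w (Pi.single k 1) = 0 := by
      intro k
      rw [single_eq]
      rcases k with k | s
      · show brK w (hv (Pi.single k 1)) = 0
        rw [h2, br_hh]
      · show brK w (er s) = 0
        have hs' : (s : ℕ) < 240 := lt_of_lt_of_eq s.2 nr
        rw [h2, br_hv _ hs']
        by_contra h5
        apply h3
        refine ⟨s, hs', er_mem_hr hI hs' ?_⟩
        obtain ⟨c, hc⟩ : ∃ c : KK, c = ∑ i : Fin chevE8.rank, w (Sum.inl i) * ((car chevE8 i s : ℤ) : KK) := ⟨_, rfl⟩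
        rw [← hc] at h5
        have hc0 : c ≠ 0 := fun h => h5 (by rw [h, zero_smul])
        have h6 := hI (er s) _ hw
        rw [h2, br_er_hv _ hs', ← hc] at h6
        have h7 := I.smul_mem c⁻¹ h6
        rwa [smul_smul, inv_mul_cancel₀ hc0, one_smul] at h7
    have h5 : brM w = 0 := by
      apply LinearMap.pi_ext'
      intro k
      apply LinearMap.ext_ring
      exact h4 k
    have h6 : brM w z = 0 := by rw [h5]; rfl
    exact h6

end Cfsg.Agent.H201.L34
end

-- part: H201/L34/Form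
section
/-!
# S5917: the invariant alternating form of the Lie algebra of `E₈` in characteristic two (helper201)

* `bf` : the form, `bf_symm`, `bf_alt`, `bf_nondeg`;
* `bf_ad` : `bf (brK x u) v = bf u (brK x v)`.
-/

set_option autoImplicit false
set_option linter.unusedSectionVars false
set_option maxRecDepth 100000

namespace Cfsg.Agent.H201.L34

open Matrix Cfsg Cfsg.Lie Cfsg.Lie.ChevalleyDatum
open Cfsg.Agent.ChevalleyStructure.Columns (car cor)
open Cfsg.Agent.H939.L64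
open Cfsg.Agent.H413.L64
open Cfsg.Agent.H413.L16
open Cfsg.Agent.H876.L64
open Cfsg.Agent.H597.E8Form (J)

/-- the invariant form -/
noncomputable def bf (u v : LK) : KK := u ⬝ᵥ (J KK *ᵥ v)

theorem bf_add_l (u v w : LK) : bf (u + v) w = bf u w + bf v w := add_dotProduct _ _ _

theorem bf_add_r (u v w : LK) : bf u (v + w) = bf u v + bf u w := by
  unfold bf
  rw [mulVec_add, dotProduct_add]

theorem bf_smul_l (c : KK) (u v : LK) : bf (c • u) v = c * bf u v := smul_dotProduct _ _ _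

theorem bf_smul_r (c : KK) (u v : LK) : bf u (c • v) = c * bf u v := by
  unfold bf
  rw [mulVec_smul, dotProduct_smul, smul_eq_mul]

theorem bf_zero_l (v : LK) : bf 0 v = 0 := zero_dotProduct _

theorem bf_zero_r (v : LK) : bf v 0 = 0 := by
  unfold bf
  rw [mulVec_zero, dotProduct_zero]

theorem bf_symm (u v : LK) : bf u v = bf v u := by
  unfold bf
  rw [dotProduct_mulVec, dotProduct_comm, ← mulVec_transpose, Cfsg.Agent.H597.E8Form.J_transpose]

theorem bf_nondeg {u : LK} (h : ∀ v, bf u v = 0) : u = 0 := by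
  have h1 : u ᵥ* J KK = 0 := by
    funext a
    have h2 := h (Pi.single a 1)
    unfold bf at h2
    rw [dotProduct_mulVec, dotProduct_single, mul_one] at h2
    exact h2
  have h3 : (u ᵥ* J KK) ᵥ* (J KK)⁻¹ = u := by
    rw [vecMul_vecMul, Matrix.mul_nonsing_inv _ Cfsg.Agent.H597.E8Form.isUnit_det, vecMul_one]
  rw [← h3, h1, zero_vecMul]

theorem AZ_diag : ∀ i : Fin 8, Cfsg.Agent.H597.E8Form.AZ i i = 2 := by (delta Cfsg.Agent.ChevalleyStructure.Columns.car Cfsg.Agent.H597.E8Form.AZ; (try set_option simprocs false in simp -zeta only [Cfsg.Agent.ChevFast.E8.cartanR]); decide +kernel)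

theorem bf_single (k : chevE8.Idx) : bf (Pi.single k 1) (Pi.single k 1) = 0 := by
  unfold bf
  rw [mulVec_single_one, single_dotProduct, one_mul]
  rcases k with i | s
  · show J KK (Sum.inl i) (Sum.inl i) = 0
    rw [Cfsg.Agent.H597.E8Form.J_ll, AZ_diag, Int.cast_ofNat]
    exact two_zero
  · show J KK (Sum.inr s) (Sum.inr s) = 0
    rw [Cfsg.Agent.H597.E8Form.J_rr, if_neg]
    intro h
    have h1 := congrArg Fin.val h
    rw [Cfsg.Agent.H597.E8Form.rv_val] at h1
    omega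

theorem sum_single (w : LK) : w = ∑ k, w k • (Pi.single k 1 : LK) := by
  funext a
  rw [Finset.sum_apply, Finset.sum_eq_single a]
  · rw [Pi.smul_apply, Pi.single_eq_same, smul_eq_mul, mul_one]
  · intro b _ hb
    rw [Pi.smul_apply, Pi.single_eq_of_ne hb.symm, smul_zero]
  · intro h; exact absurd (Finset.mem_univ _) h

theorem KK_add_self (a : KK) : a + a = 0 := by
  rw [← two_mul, two_zero, zero_mul]

/-- **the form is alternating** -/
theorem bf_alt (u : LK) : bf u u = 0 := by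
  rw [sum_single u]
  refine Finset.sum_induction _ (fun x => bf x x = 0) ?_ (bf_zero_l 0) ?_
  · intro a b ha hb
    rw [bf_add_l, bf_add_r, bf_add_r, ha, hb, bf_symm b a, zero_add, add_zero, KK_add_self]
  · intro k _
    rw [bf_smul_l, bf_smul_r, bf_single, mul_zero, mul_zero]

theorem bf_er {r : ℕ} (hr : r < 240) (v : LK) : bf (er r) v = v (Sum.inr ⟨239 - r, by rw [nr]; omega⟩) := by
  have hr' : r < chevE8.nroots := by rw [nr]; exact hr
  unfold bf
  rw [er_of hr', single_dotProduct, one_mul, mulVec, dotProduct, Fintype.sum_sum_type]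
  have h1 : ∑ i : Fin chevE8.rank, J KK (Sum.inr ⟨r, hr'⟩) (Sum.inl i) * v (Sum.inl i) = 0 :=
    Finset.sum_eq_zero fun i _ => by rw [Cfsg.Agent.H597.E8Form.J_rl, zero_mul]
  rw [h1, zero_add, Cfsg.Agent.H597.E8Form.sum_J_rr ⟨r, hr'⟩ (fun w => v (Sum.inr w))]
  congr 2
  exact Fin.ext (Cfsg.Agent.H597.E8Form.rv_val _)

theorem bf_xr {r : ℕ} (hr : r < 240) (c : KK) (u v : LK) : bf (aK (xr r c) u) (aK (xr r c) v) = bf u v := by
  have hr' : r < chevE8.nroots := by rw [nr]; exact hr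
  have h1 := Cfsg.Agent.H597.E8Form.inv_gen ⟨r, hr'⟩ c
  rw [← Cfsg.Agent.ChevalleyStructure.Good.x_eq_xMat r hr'] at h1
  unfold bf aK
  rw [coe_xr hr]
  generalize chevE8.x KK r c = A at h1
  rw [← vecMul_transpose A u, ← dotProduct_mulVec, mulVec_mulVec, mulVec_mulVec, h1]

theorem br_er_n {r : ℕ} (hr : r < 240) (v : LK) :
    brK (er r) v (Sum.inr ⟨239 - r, by rw [nr]; omega⟩) = 0 := by
  have h0 : (1 : KK) + 1 = 0 := by rw [one_add_one_eq_two]; exact two_zero
  have h1 : aK (xr r 1) (aK (xr r 1) v) = v := by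
    rw [← aK_mul, xr_add hr, h0, xr_zero hr, aK_one]
  rw [aK_xr hr 1 v, aK_xr hr 1] at h1
  simp only [br_add_r, br_smul_r, br_self', br_er_er hr, smul_zero, add_zero, Pi.add_apply, Pi.smul_apply, smul_eq_mul,
    f_er hr, mul_zero, one_smul, one_pow, one_mul] at h1
  obtain ⟨n, hn⟩ : ∃ n : Fin chevE8.nroots, n = ⟨239 - r, by rw [nr]; omega⟩ := ⟨_, rfl⟩
  rw [← hn] at h1 ⊢
  have h4 : (v + brK (er r) v + v (Sum.inr n) • er r + brK (er r) v +
      (v (Sum.inr n) + brK (er r) v (Sum.inr n)) • er r) =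
      v + brK (er r) v (Sum.inr n) • er r + (brK (er r) v + brK (er r) v) + (v (Sum.inr n) • er r + v (Sum.inr n) • er r) := by
    module
  rw [h4, add_self', add_self', add_zero, add_zero] at h1
  have h5 := add_eq_left.1 h1
  exact (smul_eq_zero.1 h5).resolve_right (er_ne_zero hr)

theorem bf_ad_er {r : ℕ} (hr : r < 240) (u v : LK) : bf (brK (er r) u) v = bf u (brK (er r) v) := by
  obtain ⟨n, hn⟩ : ∃ n : Fin chevE8.nroots, n = ⟨239 - r, by rw [nr]; omega⟩ := ⟨_, rfl⟩
  have hx : ∀ (c : KK) (w : LK), aK (xr r c) w = w + c • brK (er r) w + (c ^ 2 * w (Sum.inr n)) • er r := by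
    intro c w
    rw [aK_xr hr, hn]
  have hf : er r (Sum.inr n) = 0 := by rw [hn]; exact f_er hr
  have he : ∀ w, bf (er r) w = w (Sum.inr n) := fun w => by rw [bf_er hr, hn]
  have he' : ∀ w, bf w (er r) = w (Sum.inr n) := fun w => by rw [bf_symm, he]
  have hb : ∀ w, brK (er r) w (Sum.inr n) = 0 := fun w => by rw [hn]; exact br_er_n hr w
  have key : ∀ c : KK, c * (bf u (brK (er r) v) + bf (brK (er r) u) v) + c ^ 2 * bf (brK (er r) u) (brK (er r) v) = 0 := by
    intro c
    have h1 := bf_xr hr c u v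
    rw [hx c u, hx c v] at h1
    simp only [bf_add_l, bf_add_r, bf_smul_l, bf_smul_r, he, he', hb, hf, mul_zero, add_zero, Pi.add_apply,
      Pi.smul_apply, smul_eq_mul] at h1
    have h2 := KK_add_self (c ^ 2 * u (Sum.inr n) * v (Sum.inr n))
    linear_combination h1 - h2
  obtain ⟨ω, h0, h1⟩ := exists_om
  have k1 := key 1
  have k2 := key ω
  rw [one_mul, one_pow, one_mul] at k1
  have k3 : bf u (brK (er r) v) + bf (brK (er r) u) v = 0 := by
    have h3 : ω * (1 + ω) * (bf u (brK (er r) v) + bf (brK (er r) u) v) = 0 := by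
      linear_combination k2 + ω ^ 2 * k1 - KK_add_self (ω ^ 2 * bf (brK (er r) u) (brK (er r) v))
    have h4 : (1 + ω) ≠ 0 := by
      intro h
      apply h1
      linear_combination h - KK_add_self 1
    exact (mul_eq_zero.1 h3).resolve_left (mul_ne_zero h0 h4)
  linear_combination k3 - KK_add_self (bf u (brK (er r) v))

/-- the property of invariance -/
def BInv (x : LK) : Prop := ∀ u v, bf (brK x u) v = bf u (brK x v)

theorem BInv.add {x y : LK} (hx : BInv x) (hy : BInv y) : BInv (x + y) := fun u v => by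
  rw [br_add_l, br_add_l, bf_add_l, bf_add_r, hx, hy]

theorem BInv.smul {x : LK} (hx : BInv x) (c : KK) : BInv (c • x) := fun u v => by
  rw [br_smul_l, br_smul_l, bf_smul_l, bf_smul_r, hx]

theorem jac' (a b u : LK) : brK (brK a b) u = brK a (brK b u) + brK b (brK a u) := by
  rw [jac a b u, add_assoc, add_self', add_zero]

theorem BInv.br {x y : LK} (hx : BInv x) (hy : BInv y) : BInv (brK x y) := fun u v => by
  rw [jac', jac', bf_add_l, bf_add_r, hx, hy, hy, hx, add_comm]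

/-- **the form is invariant** -/
theorem bf_ad (x u v : LK) : bf (brK x u) v = bf u (brK x v) := by
  have h : BInv x := by
    rw [sum_single x]
    refine Finset.sum_induction _ BInv (fun a b ha hb => ha.add hb) (fun u v => ?_) ?_
    · rw [br_zero_l, br_zero_l, bf_zero_l, bf_zero_r]
    · intro k _
      apply BInv.smul
      rw [single_eq]
      rcases k with k | s
      · show BInv (hv (Pi.single k 1))
        rw [← hr_six, ← br_neg (six_lt _)]
        exact BInv.br (bf_ad_er (six_lt _)) (bf_ad_er (by omega))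
      · exact bf_ad_er (lt_of_lt_of_eq s.2 nr)
  exact h u v

end Cfsg.Agent.H201.L34
end
end

-- part: H940/L34/Cyc
section
set_option linter.all false
open scoped Cfsg.Agent.FastGrp

/-!
# S5917, type D, row E2c (iv): the Frobenius permutes the types cyclically (helper940)

`M` = fixed algebra of `E`, `Mp` its derived algebra, `t` its centre.
* `bf` : the invariant form, `bf_hx` : `bf m (hx x) = LL m x`;
* `mem_Mp` : `m ∈ M`, `LL m x = 0` for all `x` : `m ∈ Mp`;
* `cyc` : `a ≠ 0`, `w ∈ M` fixed by `F'` : `sq (sq w) + sq w + w ∈ Mp`.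
-/

set_option autoImplicit false
set_option maxRecDepth 100000

namespace Cfsg.Agent.H940.L34.Cyc

open Cfsg Cfsg.Lie Cfsg.Lie.ChevalleyDatum
open Cfsg.Agent.ChevalleyStructure Cfsg.Agent.ChevalleyStructure.LieAbs Cfsg.Agent.ChevalleyStructure.LieAut
open Cfsg.Agent.ChevalleyStructure.Columns (car cor)
open Cfsg.Agent.H939.L64 Cfsg.Agent.H413.L16 Cfsg.Agent.H251.L34
open Cfsg.Agent.H876.L64
open Cfsg.Agent.H413.L64 (charKK)
open Cfsg.Agent.H129.TorusUntw (phi)
open Cfsg.Agent.H942.DF (EF NG VV Mp G0 hx lam PT HB RX IX hv_inl hv_inr er_inl slt zero_cases odd_car)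
open Cfsg.Agent.H597.E8Form (J J_ll J_lr J_rl J_rr lt8 inv_gen J_transpose AZ)

variable {t1 t2 : ↥(chevE8.group KK)} {ζ : KK} {g : ↥(chevE8.group KK)}

/-! ### the form -/

theorem J_inv (g : GL chevE8.Idx KK) (hg : g ∈ chevE8.group KK) :
    (g : Matrix chevE8.Idx chevE8.Idx KK).transpose * J KK * (g : Matrix chevE8.Idx chevE8.Idx KK) = J KK := by
  unfold ChevalleyDatum.group at hg
  induction hg using Subgroup.closure_induction with
  | mem x hx =>
    obtain ⟨r, t, h⟩ := hx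
    rw [h]
    exact inv_gen r t
  | one => simp
  | mul x y _ _ hx hy =>
    rw [Units.val_mul, Matrix.transpose_mul]
    calc ((y : Matrix chevE8.Idx chevE8.Idx KK)).transpose * ((x : Matrix chevE8.Idx chevE8.Idx KK)).transpose * J KK *
          ((x : Matrix chevE8.Idx chevE8.Idx KK) * (y : Matrix chevE8.Idx chevE8.Idx KK))
        = ((y : Matrix chevE8.Idx chevE8.Idx KK)).transpose * (((x : Matrix chevE8.Idx chevE8.Idx KK)).transpose * J KK *
          (x : Matrix chevE8.Idx chevE8.Idx KK)) * (y : Matrix chevE8.Idx chevE8.Idx KK) := by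
          simp only [Matrix.mul_assoc]
      _ = _ := by rw [hx, hy]
  | inv x _ hx =>
    have h1 : (x : Matrix chevE8.Idx chevE8.Idx KK) * ((x⁻¹ : GL chevE8.Idx KK) : Matrix chevE8.Idx chevE8.Idx KK) = 1 := by
      rw [← Units.val_mul, mul_inv_cancel, Units.val_one]
    calc (((x⁻¹ : GL chevE8.Idx KK) : Matrix chevE8.Idx chevE8.Idx KK)).transpose * J KK *
          ((x⁻¹ : GL chevE8.Idx KK) : Matrix chevE8.Idx chevE8.Idx KK)
        = (((x⁻¹ : GL chevE8.Idx KK) : Matrix chevE8.Idx chevE8.Idx KK)).transpose *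
          (((x : Matrix chevE8.Idx chevE8.Idx KK)).transpose * J KK * (x : Matrix chevE8.Idx chevE8.Idx KK)) *
          ((x⁻¹ : GL chevE8.Idx KK) : Matrix chevE8.Idx chevE8.Idx KK) := by rw [hx]
      _ = ((x : Matrix chevE8.Idx chevE8.Idx KK) *
          ((x⁻¹ : GL chevE8.Idx KK) : Matrix chevE8.Idx chevE8.Idx KK)).transpose * J KK *
          ((x : Matrix chevE8.Idx chevE8.Idx KK) *
          ((x⁻¹ : GL chevE8.Idx KK) : Matrix chevE8.Idx chevE8.Idx KK)) := by
          simp only [Matrix.transpose_mul, Matrix.mul_assoc]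
      _ = J KK := by rw [h1, Matrix.transpose_one, Matrix.one_mul, Matrix.mul_one]

/-- the invariant form -/
noncomputable def bf (v w : LK) : KK := dotProduct v ((J KK).mulVec w)

theorem bf_aK (g : ↥(chevE8.group KK)) (v w : LK) : bf (aK g v) (aK g w) = bf v w := by
  unfold bf aK
  rw [← Matrix.vecMul_transpose, Matrix.dotProduct_mulVec, Matrix.vecMul_vecMul, ← Matrix.dotProduct_mulVec,
    Matrix.mulVec_mulVec, J_inv _ g.2]

/-- the coordinates of the Cartan subalgebra -/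
def co (m : LK) (k : Fin 8) : KK := m (Sum.inl (k.cast rk8.symm))

/-- the pairing -/
noncomputable def LL (m : LK) (x : Fin 4 → KK) : KK := x 0 * co m 6 + x 1 * (co m 5 + co m 7) + x 2 * (co m 0 + co m 5) + x 3 * co m 5

theorem tabAZ : ∀ (n : Fin 4) (i : Fin 8), ((∑ j : Fin 8, AZ i j * HB n j) -
    (![![0, 0, 0, 0, 0, 0, 1, 0], ![0, 0, 0, 0, 0, 1, 0, 1], ![1, 0, 0, 0, 0, 1, 0, 0], ![0, 0, 0, 0, 0, 1, 0, 0]] :
      Fin 4 → Fin 8 → ℤ) n i) % 2 = 0 := by decide +kernel

theorem hx_inr (x : Fin 4 → KK) (s : Fin chevE8.nroots) : hx x (Sum.inr s) = 0 := rfl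

theorem hx_inl (x : Fin 4 → KK) (i : Fin chevE8.rank) : hx x (Sum.inl i) = ∑ n, x n * ((HB n i : ℤ) : KK) := rfl

theorem J_hx_inr (x : Fin 4 → KK) (s : Fin chevE8.nroots) : (J KK).mulVec (hx x) (Sum.inr s) = 0 := by
  unfold Matrix.mulVec dotProduct
  rw [Fintype.sum_sum_type]
  simp only [J_rl, zero_mul, Finset.sum_const_zero, hx_inr, mul_zero, add_zero]

/-- the table -/
def QT : Fin 4 → Fin 8 → ℤ :=
  ![![0, 0, 0, 0, 0, 0, 1, 0], ![0, 0, 0, 0, 0, 1, 0, 1], ![1, 0, 0, 0, 0, 1, 0, 0], ![0, 0, 0, 0, 0, 1, 0, 0]]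

theorem J_hx_inl (x : Fin 4 → KK) (i : Fin chevE8.rank) :
    (J KK).mulVec (hx x) (Sum.inl i) = ∑ n, x n * ((QT n (i.cast rk8) : ℤ) : KK) := by
  unfold Matrix.mulVec dotProduct
  rw [Fintype.sum_sum_type]
  simp only [J_lr, zero_mul, Finset.sum_const_zero, add_zero, J_ll, hx_inl]
  show (∑ j : Fin 8, ((AZ (i.cast rk8) j : ℤ) : KK) * ∑ n, x n * ((HB n j : ℤ) : KK)) = _
  simp_rw [Finset.mul_sum]
  rw [Finset.sum_comm]
  refine Finset.sum_congr rfl fun n _ => ?_
  have h1 := cast_congr (tabAZ n (i.cast rk8))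
  have h2 : ((QT n (i.cast rk8) : ℤ) : KK) = ((∑ j : Fin 8, AZ (i.cast rk8) j * HB n j : ℤ) : KK) := h1.symm
  rw [h2]
  push_cast
  rw [Finset.mul_sum]
  refine Finset.sum_congr rfl fun j _ => ?_
  ring

theorem bf_hx (m : LK) (x : Fin 4 → KK) : bf m (hx x) = LL m x := by
  have h1 : bf m (hx x) = ∑ i : Fin chevE8.rank, m (Sum.inl i) * ∑ n, x n * ((QT n (i.cast rk8) : ℤ) : KK) := by
    unfold bf dotProduct
    rw [Fintype.sum_sum_type]
    simp only [J_hx_inr, mul_zero, Finset.sum_const_zero, add_zero, J_hx_inl]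
  have h2 : (∑ i : Fin chevE8.rank, m (Sum.inl i) * ∑ n, x n * ((QT n (i.cast rk8) : ℤ) : KK)) =
      ∑ k : Fin 8, co m k * ∑ n, x n * ((QT n k : ℤ) : KK) := rfl
  rw [h1, h2]
  simp only [Fin.sum_univ_eight, Fin.sum_univ_four, QT, LL]
  simp only [_root_.Fin.isValue, _root_.Matrix.cons_val', _root_.Matrix.cons_val_zero, _root_.Matrix.cons_val_fin_one, _root_.Int.cast_zero, _root_.MulZeroClass.mul_zero, _root_.Matrix.cons_val_one, _root_.add_zero, _root_.Matrix.cons_val, _root_.Int.cast_one, _root_.mul_one, _root_.zero_add]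
  ring

/-! ### the derived algebra -/

/-- the vectors without the coordinates `0, 5, 6, 7` -/
noncomputable def N4 : Submodule KK LK where
  carrier := {v | co v 0 = 0 ∧ co v 5 = 0 ∧ co v 6 = 0 ∧ co v 7 = 0}
  add_mem' := by
    rintro a b ⟨h1, h2, h3, h4⟩ ⟨k1, k2, k3, k4⟩
    have e : ∀ k, co (a + b) k = co a k + co b k := fun k => rfl
    exact ⟨by rw [e, h1, k1, add_zero], by rw [e, h2, k2, add_zero], by rw [e, h3, k3, add_zero],
      by rw [e, h4, k4, add_zero]⟩
  zero_mem' := ⟨rfl, rfl, rfl, rfl⟩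
  smul_mem' := by
    rintro c a ⟨h1, h2, h3, h4⟩
    have e : ∀ k, co (c • a) k = c * co a k := fun k => rfl
    exact ⟨by rw [e, h1, mul_zero], by rw [e, h2, mul_zero], by rw [e, h3, mul_zero], by rw [e, h4, mul_zero]⟩

theorem co_er (s : ℕ) (k : Fin 8) : co (er s) k = 0 := er_inl _ _

theorem er_N4 (s : ℕ) : er s ∈ N4 := ⟨co_er _ _, co_er _ _, co_er _ _, co_er _ _⟩

theorem cor_4 : ∀ b, cor chevE8 (dr b) 0 = 0 ∧ cor chevE8 (dr b) 5 = 0 ∧ cor chevE8 (dr b) 6 = 0 ∧ cor chevE8 (dr b) 7 = 0 := by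
  decide +kernel

theorem co_hr (r : ℕ) (k : Fin 8) : co (hr r) k = ((cor chevE8 r k : ℤ) : KK) := rfl

theorem br_G0 : ∀ x ∈ G0, ∀ y ∈ G0, brM x y ∈ N4 := by
  rintro x (⟨c, rfl⟩ | ⟨b, rfl⟩) y (⟨c', rfl⟩ | ⟨b', rfl⟩)
  · show brK _ _ ∈ _
    rw [br_hh]; exact zero_mem _
  · show brK _ _ ∈ _
    rw [br_hv _ (dr_lt b')]
    exact Submodule.smul_mem _ _ (er_N4 _)
  · show brK _ _ ∈ _
    rw [br_comm, br_hv _ (dr_lt b)]
    exact Submodule.smul_mem _ _ (er_N4 _)
  · show brK _ _ ∈ _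
    by_cases hn : dr b' = 239 - dr b
    · rw [hn, br_neg (dr_lt b)]
      obtain ⟨c0, c5, c6, c7⟩ := cor_4 b
      refine ⟨?_, ?_, ?_, ?_⟩
      · rw [co_hr]; show ((cor chevE8 (dr b) 0 : ℤ) : KK) = 0; rw [c0, Int.cast_zero]
      · rw [co_hr]; show ((cor chevE8 (dr b) 5 : ℤ) : KK) = 0; rw [c5, Int.cast_zero]
      · rw [co_hr]; show ((cor chevE8 (dr b) 6 : ℤ) : KK) = 0; rw [c6, Int.cast_zero]
      · rw [co_hr]; show ((cor chevE8 (dr b) 7 : ℤ) : KK) = 0; rw [c7, Int.cast_zero]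
    · rw [br_rr (dr_lt b) (dr_lt b') hn]
      exact er_N4 _

theorem Mp_le (h : EF t1 t2 ζ) : Mp t1 t2 ζ ≤ N4 := by
  refine Submodule.span_le.2 ?_
  rintro _ ⟨a, b, ha, hb, rfl⟩
  exact LinearMap.BilinMap.apply_apply_mem_of_mem_span N4 G0 G0 brM br_G0 a b (h.mem_span ha) (h.mem_span hb)

theorem LL_Mp (h : EF t1 t2 ζ) {m : LK} (hm : m ∈ Mp t1 t2 ζ) (x : Fin 4 → KK) : LL m x = 0 := by
  obtain ⟨h0, h5, h6, h7⟩ := Mp_le h hm
  unfold LL
  rw [h0, h5, h6, h7]
  ring

theorem LL_add (m m' : LK) (x : Fin 4 → KK) : LL (m + m') x = LL m x + LL m' x := by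
  have e : ∀ k, co (m + m') k = co m k + co m' k := fun k => rfl
  unfold LL
  rw [e, e, e, e]
  ring

theorem er_mem (h : EF t1 t2 ζ) (b : Fin 24) : er (dr b) ∈ Mp t1 t2 ζ := by
  obtain ⟨i, hi⟩ := odd_car ⟨dr b, by rw [nr]; exact dr_lt b⟩
  refine Submodule.subset_span ⟨hv (Pi.single i 1), er (dr b), h.hvM _, h.drM b, ?_⟩
  rw [br_hv _ (dr_lt b), Finset.sum_eq_single i]
  · rw [Pi.single_eq_same, one_mul, cast_odd hi, one_smul]
  · intro j _ hj
    rw [Pi.single_eq_of_ne hj, zero_mul]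
  · intro h; exact absurd (Finset.mem_univ _) h

theorem cor_tab4 : ∀ i : Fin 8, cor chevE8 141 i = (if i = 1 then 1 else 0) ∧ cor chevE8 135 i = (if i = 2 then 1 else 0) ∧
    cor chevE8 130 i = (if i = 3 then 1 else 0) ∧ cor chevE8 126 i = (if i = 4 then 1 else 0) := by decide +kernel

theorem hr4_mem (h : EF t1 t2 ζ) : hr 141 ∈ Mp t1 t2 ζ ∧ hr 135 ∈ Mp t1 t2 ζ ∧ hr 130 ∈ Mp t1 t2 ζ ∧ hr 126 ∈ Mp t1 t2 ζ := by
  obtain ⟨d1, d2, d3, d4⟩ := Cfsg.Agent.H942.DF.dr_tab
  have e1 := h.hr_mem 18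
  have e2 := h.hr_mem 15
  have e3 := h.hr_mem 13
  have e4 := h.hr_mem 12
  rw [d1] at e1
  rw [d2] at e2
  rw [d3] at e3
  rw [d4] at e4
  exact ⟨e1, e2, e3, e4⟩

theorem hv_mem (h : EF t1 t2 ζ) {c : Fin chevE8.rank → KK} (hc : hv c ∈ N4) : hv c ∈ Mp t1 t2 ζ := by
  obtain ⟨h0, h5, h6, h7⟩ := hc
  obtain ⟨m1, m2, m3, m4⟩ := hr4_mem h
  have e : hv c = co (hv c) 1 • hr 141 + co (hv c) 2 • hr 135 + co (hv c) 3 • hr 130 + co (hv c) 4 • hr 126 := by
    funext j
    rcases j with i | s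
    · obtain ⟨k, rfl⟩ : ∃ k : Fin 8, i = k.cast rk8.symm := ⟨i.cast rk8, rfl⟩
      have q2 : ∀ (a : KK) (m : LK), co (a • m) k = a * co m k := fun a m => rfl
      have q3 : ∀ (a m : LK), co (a + m) k = co a k + co m k := fun a m => rfl
      obtain ⟨t1, t2, t3, t4⟩ := cor_tab4 k
      show co (hv c) k = co (co (hv c) 1 • hr 141 + co (hv c) 2 • hr 135 + co (hv c) 3 • hr 130 + co (hv c) 4 • hr 126) k
      rw [q3, q3, q3, q2, q2, q2, q2, co_hr, co_hr, co_hr, co_hr, t1, t2, t3, t4]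
      fin_cases k
      · simpa using h0
      · simp
      · simp
      · simp
      · simp
      · simpa using h5
      · simpa using h6
      · simpa using h7
    · show (0 : KK) = co (hv c) 1 * 0 + co (hv c) 2 * 0 + co (hv c) 3 * 0 + co (hv c) 4 * 0
      ring
  rw [e]
  exact add_mem (add_mem (add_mem (Submodule.smul_mem _ _ m1) (Submodule.smul_mem _ _ m2)) (Submodule.smul_mem _ _ m3))
    (Submodule.smul_mem _ _ m4)

theorem mem_Mp' (h : EF t1 t2 ζ) {v : LK} (hm : VV t1 t2 ζ 0 0 v) (h4 : v ∈ N4) : v ∈ Mp t1 t2 ζ := by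
  have e : v = hv (fun i => v (Sum.inl i)) + ∑ s : Fin chevE8.nroots, v (Sum.inr s) • er s := by
    funext j
    rw [Pi.add_apply, Finset.sum_apply]
    rcases j with i | s
    · rw [hv_inl, Finset.sum_eq_zero, add_zero]
      intro s _
      rw [Pi.smul_apply, er_inl, smul_zero]
    · rw [hv_inr, zero_add, Finset.sum_eq_single s]
      · rw [Pi.smul_apply, er_inr, if_pos rfl, smul_eq_mul, mul_one]
      · intro b _ hb
        rw [Pi.smul_apply, er_inr, if_neg (fun h => hb (Fin.ext h)), smul_zero]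
      · intro h; exact absurd (Finset.mem_univ _) h
  rw [e]
  refine add_mem (hv_mem h h4) (sum_mem fun s _ => ?_)
  by_cases h0 : v (Sum.inr s) = 0
  · rw [h0, zero_smul]; exact zero_mem _
  · obtain ⟨e1, e3⟩ := h.root hm h0
    obtain ⟨b, hb⟩ := zero_cases (slt s) e1 e3
    rw [hb]
    exact Submodule.smul_mem _ _ (er_mem h b)

/-- membership by the pairing -/
theorem mem_Mp (h : EF t1 t2 ζ) {v : LK} (hm : VV t1 t2 ζ 0 0 v) (h4 : ∀ n : Fin 4, LL v (Pi.single n 1) = 0) :
    v ∈ Mp t1 t2 ζ := by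
  refine mem_Mp' h hm ?_
  have e0 := h4 0
  have e1 := h4 1
  have e2 := h4 2
  have e3 := h4 3
  unfold LL at e0 e1 e2 e3
  simp [Pi.single_apply] at e0 e1 e2 e3
  rw [e3, zero_add] at e1
  rw [e3, add_zero] at e2
  exact ⟨e2, e3, e0, e1⟩

/-! ### squares -/

theorem sq_mod (h : EF t1 t2 ζ) {v : LK} (hm : VV t1 t2 ζ 0 0 v) :
    VV t1 t2 ζ 0 0 v ∧ H201.L34.sq v + hv (fun i => v (Sum.inl i) ^ 2) ∈ Mp t1 t2 ζ := by
  have hs := h.mem_span hm
  have h00 : ∀ v, VV t1 t2 ζ 0 0 v ↔ aK t1 v = v ∧ aK t2 v = v := fun v => Cfsg.Agent.H942.DF.VV00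
  have hch := charKK
  clear hm
  induction hs using Submodule.span_induction with
  | mem u hu =>
    rcases hu with ⟨c, rfl⟩ | ⟨b, rfl⟩
    · refine ⟨h.hvM c, ?_⟩
      rw [H201.L34.sq_hv]
      have : hv (fun i => c i ^ 2) + hv (fun i => (hv c) (Sum.inl i) ^ 2) = 0 := add_self' _
      rw [this]
      exact zero_mem _
    · refine ⟨h.drM b, ?_⟩
      rw [H201.L34.sq_er]
      have : hv (fun i => (er (dr b)) (Sum.inl i) ^ 2) = 0 := by
        funext j
        rcases j with i | s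
        · show er (dr b) (Sum.inl i) ^ 2 = 0
          rw [er_inl]; ring
        · rfl
      rw [this, add_zero]
      exact zero_mem _
  | zero =>
    refine ⟨(h00 _).2 ⟨aK_zero _, aK_zero _⟩, ?_⟩
    rw [H201.L34.sq_zero]
    have : hv (fun i => (0 : LK) (Sum.inl i) ^ 2) = 0 := by
      funext j
      rcases j with i | s
      · show (0 : KK) ^ 2 = 0
        ring
      · rfl
    rw [this, add_zero]
    exact zero_mem _
  | add a b _ _ iha ihb =>
    obtain ⟨a1, a2⟩ := iha
    obtain ⟨b1, b2⟩ := ihb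
    refine ⟨(h00 _).2 ⟨?_, ?_⟩, ?_⟩
    · rw [aK_add, ((h00 _).1 a1).1, ((h00 _).1 b1).1]
    · rw [aK_add, ((h00 _).1 a1).2, ((h00 _).1 b1).2]
    · have e1 : hv (fun i => (a + b) (Sum.inl i) ^ 2) = hv (fun i => a (Sum.inl i) ^ 2) + hv (fun i => b (Sum.inl i) ^ 2) := by
        funext j
        rcases j with i | s
        · show (a (Sum.inl i) + b (Sum.inl i)) ^ 2 = a (Sum.inl i) ^ 2 + b (Sum.inl i) ^ 2
          exact CharTwo.add_sq _ _
        · show (0 : KK) = 0 + 0
          ring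
      have e2 : H201.L34.sq (a + b) + hv (fun i => (a + b) (Sum.inl i) ^ 2) =
          (H201.L34.sq a + hv (fun i => a (Sum.inl i) ^ 2)) + (H201.L34.sq b + hv (fun i => b (Sum.inl i) ^ 2)) + brK a b := by
        rw [H201.L34.sq_add, e1]
        abel
      rw [e2]
      exact add_mem (add_mem a2 b2) (Submodule.subset_span ⟨a, b, a1, b1, rfl⟩)
  | smul c a _ iha =>
    obtain ⟨a1, a2⟩ := iha
    refine ⟨(h00 _).2 ⟨?_, ?_⟩, ?_⟩
    · rw [aK_smul, ((h00 _).1 a1).1]
    · rw [aK_smul, ((h00 _).1 a1).2]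
    · have e1 : hv (fun i => (c • a) (Sum.inl i) ^ 2) = c ^ 2 • hv (fun i => a (Sum.inl i) ^ 2) := by
        funext j
        rcases j with i | s
        · show (c * a (Sum.inl i)) ^ 2 = c ^ 2 * a (Sum.inl i) ^ 2
          ring
        · show (0 : KK) = c ^ 2 * 0
          ring
      rw [H201.L34.sq_smul, e1, ← smul_add]
      exact Submodule.smul_mem _ _ a2

/-- `F₂`-points -/
def Bin (x : Fin 4 → KK) : Prop := ∀ n, x n ^ 2 = x n

theorem add_sq' (a b : KK) : (a + b) ^ 2 = a ^ 2 + b ^ 2 := by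
  have hch := charKK
  exact CharTwo.add_sq a b

theorem LL_sq' (c : LK) {x : Fin 4 → KK} (hx' : Bin x) : LL (hv fun i => c (Sum.inl i) ^ 2) x = LL c x ^ 2 := by
  have e : ∀ k, co (hv fun i => c (Sum.inl i) ^ 2) k = co c k ^ 2 := fun k => rfl
  unfold LL
  rw [e, e, e, e, add_sq', add_sq', add_sq', mul_pow, mul_pow, mul_pow, mul_pow, add_sq', add_sq', hx', hx', hx', hx']

/-- the square -/
theorem LL_sq (h : EF t1 t2 ζ) {v : LK} (hm : VV t1 t2 ζ 0 0 v) {x : Fin 4 → KK} (hx' : Bin x) :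
    LL (H201.L34.sq v) x = LL v x ^ 2 := by
  have h1 := LL_Mp h (sq_mod h hm).2 x
  rw [LL_add, LL_sq' v hx'] at h1
  have hch := charKK
  exact CharTwo.add_eq_zero.1 h1

theorem LL_fr (v : LK) {x : Fin 4 → KK} (hx' : Bin x) : LL (fr v) x = LL v x ^ 2 := by
  rw [← LL_sq' v hx']
  rfl

theorem VV_sq (h : EF t1 t2 ζ) {v : LK} (hm : VV t1 t2 ζ 0 0 v) : VV t1 t2 ζ 0 0 (H201.L34.sq v) := by
  rw [Cfsg.Agent.H942.DF.VV00] at hm ⊢
  rw [H201.L34.aK_sq, H201.L34.aK_sq, hm.1, hm.2]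
  exact ⟨rfl, rfl⟩

theorem VV_add {v v' : LK} (hm : VV t1 t2 ζ 0 0 v) (hm' : VV t1 t2 ζ 0 0 v') : VV t1 t2 ζ 0 0 (v + v') := by
  rw [Cfsg.Agent.H942.DF.VV00] at hm hm' ⊢
  rw [aK_add, aK_add, hm.1, hm.2, hm'.1, hm'.2]
  exact ⟨rfl, rfl⟩

/-! ### the toral points of the centre -/

theorem hx_coords (x : Fin 4 → KK) : co (hx x) 7 = x 0 ∧ co (hx x) 6 = x 1 ∧ co (hx x) 2 = x 2 ∧ co (hx x) 1 = x 3 := by
  have e : ∀ k, co (hx x) k = ∑ n, x n * ((HB n k : ℤ) : KK) := fun k => rfl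
  refine ⟨?_, ?_, ?_, ?_⟩ <;> rw [e, Fin.sum_univ_four] <;> simp [HB]

theorem hx_inj {x y : Fin 4 → KK} (h : hx x = hx y) : x = y := by
  obtain ⟨a1, a2, a3, a4⟩ := hx_coords x
  obtain ⟨b1, b2, b3, b4⟩ := hx_coords y
  rw [h] at a1 a2 a3 a4
  funext n
  fin_cases n
  · exact a1.symm.trans b1
  · exact a2.symm.trans b2
  · exact a3.symm.trans b3
  · exact a4.symm.trans b4

theorem fr_hx (x : Fin 4 → KK) : fr (hx x) = hx fun n => x n ^ 2 := by
  funext j
  rcases j with i | s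
  · show (∑ n, x n * ((HB n i : ℤ) : KK)) ^ 2 = ∑ n, x n ^ 2 * ((HB n i : ℤ) : KK)
    have c : ∀ a : ℤ, ((a : ℤ) : KK) ^ 2 = (a : KK) := H201.L34.cast_sq
    rw [Fin.sum_univ_four, Fin.sum_univ_four, add_sq', add_sq', add_sq', mul_pow, mul_pow, mul_pow, mul_pow, c, c, c, c]
  · show (0 : KK) ^ 2 = 0
    ring

theorem sq_hx (x : Fin 4 → KK) : H201.L34.sq (hx x) = hx fun n => x n ^ 2 := by
  rw [← fr_hx]
  unfold hx
  rw [H201.L34.sq_hv, H201.L34.fr_hv]

/-- the action of an element of the normaliser on the `F₂`-points -/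
theorem exists_bin (h : EF t1 t2 ζ) {ν : Fin 8 → Fin 8} (n : NG t1 t2 ζ g ν) {x : Fin 4 → KK} (hx' : Bin x) :
    ∃ y, Bin y ∧ aK g (hx x) = hx y := by
  obtain ⟨y, hy⟩ := n.exists_y h x
  refine ⟨y, ?_, hy⟩
  have e0 : (fun n => x n ^ 2) = x := funext hx'
  have e : H201.L34.sq (hx y) = hx y := by
    rw [← hy, ← H201.L34.aK_sq, sq_hx, e0]
  rw [sq_hx] at e
  exact fun m => congrFun (hx_inj e) m

theorem PT_nw : ∀ X w m, PT X (nw w) m = PT X w m := by decide +kernel

theorem lam_nw (X : Fin 3) (w : Fin 8) (x : Fin 4 → KK) : lam X (nw w) x = lam X w x := by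
  unfold lam
  simp only [PT_nw]

theorem PT_sum : ∀ w m, (PT 0 w m + PT 1 w m + PT 2 w m) % 2 = 0 := by decide +kernel

theorem lam_sum (w : Fin 8) (x : Fin 4 → KK) : lam 0 w x + lam 1 w x + lam 2 w x = 0 := by
  unfold lam
  rw [← Finset.sum_add_distrib, ← Finset.sum_add_distrib]
  refine Finset.sum_eq_zero fun m _ => ?_
  have e := cast_even (PT_sum w m)
  push_cast at e
  rw [← mul_add, ← mul_add, e, mul_zero]

/-- the weights separate the elements of the centre -/
theorem lam_sep {x : Fin 4 → KK} (h : ∀ X w, lam X w x = 0) : x = 0 := by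
  have e1 := h 0 0
  have e2 := h 1 0
  have e3 := h 0 3
  have e4 := h 0 2
  unfold lam at e1 e2 e3 e4
  simp only [Fin.sum_univ_four, PT, _root_.Fin.isValue, _root_.Matrix.cons_val', _root_.Matrix.cons_val_zero, _root_.Matrix.cons_val_fin_one, _root_.Int.cast_zero, _root_.MulZeroClass.mul_zero, _root_.Matrix.cons_val_one, _root_.Int.cast_one, _root_.mul_one, _root_.zero_add, _root_.Matrix.cons_val, _root_.add_zero] at e1 e2 e3 e4
  rw [e3, add_zero] at e1 e4
  funext n
  fin_cases n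
  · exact e4
  · exact e1
  · exact e2
  · exact e3

/-- **E2c (iv)** -/
theorem cyc_abs (h : EF t1 t2 ζ) (n : NG t1 t2 ζ g nw) {a : Fin 3} (ha : ∀ X, RX g X (X + a)) (ha0 : a ≠ 0) {w : LK}
    (hm : VV t1 t2 ζ 0 0 w) (hw : aK g (fr w) = w) :
    H201.L34.sq (H201.L34.sq w) + H201.L34.sq w + w ∈ Mp t1 t2 ζ := by
  have hm1 := VV_sq h hm
  have hm2 := VV_sq h hm1
  refine mem_Mp h (VV_add (VV_add hm2 hm1) hm) fun m => ?_
  have hb : Bin (Pi.single m 1) := by
    intro k
    by_cases hk : k = m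
    · subst hk; rw [Pi.single_eq_same, one_pow]
    · rw [Pi.single_eq_of_ne hk]; ring
  generalize (Pi.single m 1 : Fin 4 → KK) = x at hb
  -- the two images
  obtain ⟨y, hy, ey⟩ := exists_bin h n hb
  obtain ⟨u, hu, eu⟩ := exists_bin h n hy
  have key : ∀ {x y : Fin 4 → KK}, Bin x → aK g (hx x) = hx y → LL (H201.L34.sq w) x = LL w y := by
    intro x y hx' e
    rw [LL_sq h hm hx', ← LL_fr w hx', ← bf_hx, ← bf_hx, ← e]
    conv_rhs => rw [← hw]
    rw [bf_aK]
  have k1 := key hb ey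
  have k2 := key hy eu
  have k3 : LL (H201.L34.sq (H201.L34.sq w)) x = LL w u := by
    rw [LL_sq h hm1 hb, k1, ← k2, LL_sq h hm hy]
  rw [LL_add, LL_add, k1, k3]
  -- the sum of the three points vanishes
  have hl : ∀ X w', lam (X + a) w' y = lam X w' x := by
    intro X w'
    have := n.lam_eq h (ha X) w' ey
    rwa [lam_nw] at this
  have hl2 : ∀ X w', lam (X + a) w' u = lam X w' y := by
    intro X w'
    have := n.lam_eq h (ha X) w' eu
    rwa [lam_nw] at this
  have hs : ∀ X w', lam X w' u + lam X w' y + lam X w' x = 0 := by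
    intro X w'
    have e1 : lam X w' y = lam (X - a) w' x := by rw [← hl, sub_add_cancel]
    have e2 : lam X w' u = lam (X - a - a) w' x := by rw [← hl, ← hl2, sub_add_cancel, sub_add_cancel]
    rw [e1, e2]
    have hsum := lam_sum w' x
    have tab : ∀ a X : Fin 3, a ≠ 0 → ∀ f : Fin 3 → KK, f (X - a - a) + f (X - a) + f X = f 0 + f 1 + f 2 := by
      intro a X ha f
      have t : ∀ a X : Fin 3, a ≠ 0 → (X - a - a = 0 ∧ X - a = 1 ∧ X = 2) ∨ (X - a - a = 1 ∧ X - a = 2 ∧ X = 0) ∨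
          (X - a - a = 2 ∧ X - a = 0 ∧ X = 1) ∨ (X - a - a = 0 ∧ X - a = 2 ∧ X = 1) ∨
          (X - a - a = 1 ∧ X - a = 0 ∧ X = 2) ∨ (X - a - a = 2 ∧ X - a = 1 ∧ X = 0) := by decide
      rcases t a X ha with ⟨e1, e2, e3⟩ | ⟨e1, e2, e3⟩ | ⟨e1, e2, e3⟩ | ⟨e1, e2, e3⟩ | ⟨e1, e2, e3⟩ | ⟨e1, e2, e3⟩
      all_goals rw [e1, e2, e3]
      all_goals ring
    rw [tab a X ha0 fun Y => lam Y w' x, hsum]
  have hz : u + y + x = 0 := by
    apply lam_sep
    intro X w'
    rw [← hs X w']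
    unfold lam
    rw [← Finset.sum_add_distrib, ← Finset.sum_add_distrib]
    refine Finset.sum_congr rfl fun k _ => ?_
    rw [Pi.add_apply, Pi.add_apply]
    ring
  have hadd : ∀ x y : Fin 4 → KK, LL w (x + y) = LL w x + LL w y := by
    intro x y
    unfold LL
    simp only [Pi.add_apply]
    ring
  rw [← hadd, ← hadd, hz]
  unfold LL
  simp

/-- **E2c (iv), from the Frobenius frame** -/
theorem cyc (h : EF t1 t2 ζ) {e1 e2 : E2} {z0 gF : ↥(chevE8.group KK)} (hz1 : z0⁻¹ * _root_.Cfsg.Agent.H939.L64.em e1 * z0 = t1)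
    (hz2 : z0⁻¹ * _root_.Cfsg.Agent.H939.L64.em e2 * z0 = t2) (hg : z0⁻¹ * phi chevE8 KK 2 1 z0 = gF) {a : Fin 3} (ha : ∀ X, RX gF X (X + a))
    (ha0 : a ≠ 0) {w : LK} (hm : VV t1 t2 ζ 0 0 w) (hw : aK gF (fr w) = w) :
    H201.L34.sq (H201.L34.sq w) + H201.L34.sq w + w ∈ Mp t1 t2 ζ :=
  cyc_abs h (h.NG_F hz1 hz2 hg) ha ha0 hm hw

end Cfsg.Agent.H940.L34.Cyc

private theorem dce_cc5d2182cea0 : _root_.True := by
  try have : _root_.True := by simp only [_root_.Cfsg.Agent.H940.L34.Cyc.QT.eq_1]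
  try have : _root_.True := by simp only [_root_.Cfsg.Agent.H940.L34.Cyc.LL.eq_1]
  exact _root_.True.intro
end
end
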